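import Cfsg.Agent.Lib.Lie.MultExc.LThreeFour.Table
import Cfsg.Agent.Lib.Classical.SLBasic
import Mathlib.LinearAlgebra.Projectivization.Action

/-!
The projective special linear group in dimension three over four elements is the tabulated group of the
twenty-one points of the projective plane.
-/

set_option autoImplicit false
set_option maxRecDepth 100000

namespace CfsgLib.Lie.MultExc.LThreeFour

open CfsgLib.Spor.PermCert Matrix
open scoped MatrixGroups LinearAlgebra.Projectivization

universe u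

/-- Four elements. -/
structure Four where
  v : Fin 4
  deriving DecidableEq

namespace Four

instance instFintype : Fintype Four := Fintype.ofEquiv (Fin 4) ⟨Four.mk, Four.v, fun _ => rfl, fun _ => rfl⟩

/-- A bit pattern as an element. -/
def ofN (a : ℕ) : Four := ⟨⟨a % 4, Nat.mod_lt _ (by norm_num)⟩⟩

/-- Products of bit patterns, modulo `X ^ 2 + X + 1`. -/
def mulN (a b : ℕ) : ℕ :=
  [[0, 0, 0, 0], [0, 1, 2, 3], [0, 2, 3, 1], [0, 3, 1, 2]].getD a [] |>.getD b 0

instance instAdd : Add Four := ⟨fun a b => ofN (a.v.1 ^^^ b.v.1)⟩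
instance instMul : Mul Four := ⟨fun a b => ofN (mulN a.v.1 b.v.1)⟩
instance instZero : Zero Four := ⟨ofN 0⟩
instance instOne : One Four := ⟨ofN 1⟩
instance instNeg : Neg Four := ⟨id⟩
instance instInv : Inv Four := ⟨fun a => a * a⟩

instance instCommRing : CommRing Four where
  add_assoc := by decide +kernel
  zero_add := by decide +kernel
  add_zero := by decide +kernel
  add_comm := by decide +kernel
  left_distrib := by decide +kernel
  right_distrib := by decide +kernel
  zero_mul := by decide +kernel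
  mul_zero := by decide +kernel
  mul_assoc := by decide +kernel
  one_mul := by decide +kernel
  mul_one := by decide +kernel
  mul_comm := by decide +kernel
  neg_add_cancel := by decide +kernel
  nsmul := nsmulRec
  zsmul := zsmulRec

instance instField : Field Four where
  exists_pair_ne := ⟨0, 1, by decide⟩
  mul_inv_cancel := by decide +kernel
  inv_zero := by decide +kernel
  nnqsmul := _
  nnqsmul_def := fun _ _ => rfl
  qsmul := _
  qsmul_def := fun _ _ => rfl

theorem card_four : Fintype.card Four = 4 := rfl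

end Four

/-- The codes of the points. -/
def codes : List ℕ := [1, 4, 5, 6, 7, 16, 17, 18, 19, 20, 21, 22, 23, 24, 25, 26, 27, 28, 29, 30, 31]

/-- The vector of a point. -/
def vec (i : ℕ) : Fin 3 → Four :=
  ![Four.ofN (codes.getD i 0 / 16), Four.ofN (codes.getD i 0 / 4), Four.ofN (codes.getD i 0)]

/-- The generators. -/
def gmat : ℕ → Matrix (Fin 3) (Fin 3) Four
  | 0 => !![Four.ofN 0, Four.ofN 1, Four.ofN 2; Four.ofN 0, Four.ofN 0, Four.ofN 1; Four.ofN 1, Four.ofN 0, Four.ofN 0]
  | _ => !![Four.ofN 0, Four.ofN 1, Four.ofN 1; Four.ofN 0, Four.ofN 0, Four.ofN 1; Four.ofN 1, Four.ofN 0, Four.ofN 0]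

theorem gmat_det : ∀ s : Fin 2, (gmat s.1).det = 1 := by decide +kernel

theorem vec_ne : ∀ i : Fin 21, vec i.1 ≠ 0 := by decide +kernel

theorem vec_inj : ∀ i j : Fin 21, ∀ c : Four, (fun q => c * vec i.1 q) = vec j.1 → i = j := by decide +kernel

theorem vec_surj : ∀ x : Fin 3 → Four, x ≠ 0 → ∃ i : Fin 21, ∃ c : Four, (fun q => c * vec i.1 q) = x := by
  decide +kernel

theorem images_ok : ∀ s : Fin 2, ∀ i : Fin 21, look tab.w tab.R s.1 i.1 < 21 ∧
    ∃ c : Four, c ≠ 0 ∧ (fun q => c * vec (look tab.w tab.R s.1 i.1) q) = gmat s.1 *ᵥ vec i.1 := by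
  decide +kernel

theorem moved : look tab.w tab.R 0 0 ≠ 0 ∨ look tab.w tab.R 0 1 ≠ 1 ∨ look tab.w tab.R 1 0 ≠ 0 := by
  decide +kernel

variable {F : Type u} [Field F] [Fintype F] (hF : Fintype.card F = 4)

include hF

theorem exists_model_l34 : ∃ H : Subgroup (Equiv.Perm (Fin 21)), Model 21 tab H ∧
    Nonempty (↥H ≃* Matrix.ProjectiveSpecialLinearGroup (Fin 3) F) := by
  classical
  let ι : Four ≃+* F := FiniteField.ringEquivOfCardEq (Four.card_four.trans hF.symm)
  haveI : IsSimpleGroup (Matrix.ProjectiveSpecialLinearGroup (Fin 3) F) := CfsgLib.Classical.psl_isSimple le_rfl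
  have hι : ∀ x : Fin 3 → Four, (fun q => ι (x q)) = 0 → x = 0 := fun x h => funext fun q => by
    have := congrFun h q
    rwa [Pi.zero_apply, map_eq_zero_iff ι ι.injective] at this
  let e : Fin 21 → ℙ F (Fin 3 → F) := fun i =>
    Projectivization.mk F (fun q => ι (vec i.1 q)) fun h => vec_ne i (hι _ h)
  have hmk : ∀ (x : Fin 3 → Four) (hx : (fun q => ι (x q)) ≠ 0), ∃ i, Projectivization.mk F _ hx = e i := by
    intro x hx
    obtain ⟨i, c, hc⟩ := vec_surj x fun h => hx (by subst h; exact funext fun q => map_zero ι)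
    refine ⟨i, (Projectivization.mk_eq_mk_iff' F _ _ hx _).2 ⟨ι c, funext fun q => ?_⟩⟩
    rw [← hc]
    simp
  have he : Function.Injective e := fun i j h => by
    obtain ⟨a, ha⟩ := (Projectivization.mk_eq_mk_iff' F _ _ _ _).1 h.symm
    refine vec_inj i j (ι.symm a) (funext fun q => ι.injective ?_)
    rw [map_mul, ι.apply_symm_apply]
    exact congrFun ha q
  have hcen : ∀ A ∈ Subgroup.center (SpecialLinearGroup (Fin 3) F), ∀ x : ℙ F (Fin 3 → F), A • x = x := by
    intro A hA x
    obtain ⟨r, -, hr⟩ := Matrix.SpecialLinearGroup.mem_center_iff.1 hA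
    induction x using Projectivization.ind with
    | h v hv =>
      show Projectivization.mk F (A • v) _ = _
      refine (Projectivization.mk_eq_mk_iff' F _ _ _ _).2 ⟨r, ?_⟩
      show r • v = (A : Matrix (Fin 3) (Fin 3) F) *ᵥ v
      rw [← hr]
      simp
  let ρ : Matrix.ProjectiveSpecialLinearGroup (Fin 3) F →* Equiv.Perm (ℙ F (Fin 3 → F)) :=
    QuotientGroup.lift _ (MulAction.toPermHom (SpecialLinearGroup (Fin 3) F) (ℙ F (Fin 3 → F)))
      fun A hA => Equiv.ext fun x => hcen A hA x
  letI : MulAction (Matrix.ProjectiveSpecialLinearGroup (Fin 3) F) (ℙ F (Fin 3 → F)) :=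
    MulAction.compHom _ ρ
  let gens : Fin 2 → SpecialLinearGroup (Fin 3) F := fun s =>
    ⟨ι.toRingHom.mapMatrix (gmat s.1), by rw [← RingHom.map_det, gmat_det s, map_one]⟩
  let gs : ℕ → SpecialLinearGroup (Fin 3) F := fun s => if h : s < 2 then gens ⟨s, h⟩ else 1
  have hgs : ∀ s : Fin 2, gs s.1 = gens s := fun s => dif_pos s.2
  have hmv : ∀ (s : Fin 2) (x : Fin 3 → Four),
      (gs s.1 : Matrix (Fin 3) (Fin 3) F) *ᵥ (fun q => ι (x q)) = fun q => ι ((gmat s.1 *ᵥ x) q) := by
    intro s x
    rw [hgs s]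
    funext q
    exact (RingHom.map_mulVec ι.toRingHom (gmat s.1) x q).symm
  have hcard : Nat.card (Matrix.ProjectiveSpecialLinearGroup (Fin 3) F) = 20160 := by
    have h := CfsgLib.Classical.card_psl_mul (F := F) (n := 3) (by norm_num)
    rw [hF, Fin.prod_univ_three] at h
    norm_num at h
    rw [Nat.card_eq_fintype_card]
    omega
  refine exists_model tab e he (fun g i => ?_) (fun s => QuotientGroup.mk (gs s)) (fun s hs i => ?_) ?_
    (by rw [hcard]; exact tab_ok)
  · obtain ⟨A, rfl⟩ := QuotientGroup.mk_surjective g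
    show ∃ j, A • e i = e j
    have hne : (fun q => ι ((fun q => ι.symm (((A : Matrix (Fin 3) (Fin 3) F) *ᵥ
        fun q => ι (vec i.1 q)) q)) q)) ≠ 0 := by
      simp only [RingEquiv.apply_symm_apply]
      exact (smul_ne_zero_iff_ne A).2 (fun h => vec_ne i (hι _ h))
    obtain ⟨j, hj⟩ := hmk _ hne
    refine ⟨j, ?_⟩
    rw [← hj]
    show Projectivization.mk F (A • fun q => ι (vec i.1 q)) _ = _
    simp only [RingEquiv.apply_symm_apply]
    rfl
  · have hs2 : s < 2 := hs
    obtain ⟨hlt, c, hc0, hc⟩ := images_ok ⟨s, hs2⟩ i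
    refine ⟨⟨_, hlt⟩, rfl, ?_⟩
    show gs s • e i = _
    show Projectivization.mk F (gs s • fun q => ι (vec i.1 q)) _ = _
    refine (Projectivization.mk_eq_mk_iff' F _ _ _ _).2 ⟨ι c, ?_⟩
    show ι c • (fun q => ι (vec (look tab.w tab.R s i.1) q)) = (gs s : Matrix (Fin 3) (Fin 3) F) *ᵥ _
    rw [hmv ⟨s, hs2⟩, ← hc]
    funext q
    simp
  · rcases moved with h | h | h
    · exact ⟨0, by decide, ⟨0, by norm_num⟩, h⟩
    · exact ⟨0, by decide, ⟨1, by norm_num⟩, h⟩
    · exact ⟨1, by decide, ⟨0, by norm_num⟩, h⟩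

end CfsgLib.Lie.MultExc.LThreeFour
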