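import Cfsg.Agent.Lib.Lie.MultExc.LThreeFour.Table

/-!
The certificate at the prime 2: a polycyclic sequence of a Sylow subgroup and conjugations.
-/

set_option autoImplicit false
set_option maxRecDepth 100000
set_option maxHeartbeats 0

namespace CfsgLib.Lie.MultExc.LThreeFour.P2

open CfsgLib.Spor.SchurCert

/-- The Sylow elements. -/
def sw : List (List ℕ) := [
    [10, 41, 57, 78],
    [28, 57, 78],
    [10, 38, 67, 79],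
    [1, 44, 67, 78],
    [42, 69, 79],
    [36, 65, 79]]

/-- The conjugating elements. -/
def gw : List (List ℕ) := [
    [3, 52, 67, 78],
    [10, 47, 82, 78],
    [10, 53, 68],
    [10, 37, 65, 78],
    [10, 64, 78],
    [38, 65, 79],
    [10, 44, 65],
    [52, 57, 78],
    [36, 65, 79],
    [22, 41, 78],
    [13, 38, 57],
    [28, 32, 67, 78],
    [18, 36, 81],
    [41, 79]]

/-- The certificate. -/
def cert : CfsgLib.Spor.SchurCert.Cert where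
  p := 2
  m := 6
  N := 32
  rules := [
    ([0, 0], [4]),
    ([1, 1], [5]),
    ([2, 2], []),
    ([3, 3], [4]),
    ([4, 4], []),
    ([5, 5], []),
    ([1, 0], [0, 1, 4, 5]),
    ([2, 0], [0, 2, 4]),
    ([2, 1], [1, 2, 4]),
    ([3, 0], [0, 3, 4]),
    ([3, 1], [1, 3]),
    ([3, 2], [2, 3, 5]),
    ([4, 0], [0, 4]),
    ([4, 1], [1, 4]),
    ([4, 2], [2, 4]),
    ([4, 3], [3, 4]),
    ([5, 0], [0, 5]),
    ([5, 1], [1, 5]),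
    ([5, 2], [2, 5]),
    ([5, 3], [3, 5]),
    ([5, 4], [4, 5])]
  maps := [
    [([0, 1], [2, 5]), ([2], [0, 1, 2, 4, 5]), ([4], [0, 1, 5]), ([5], [2, 4, 5])],
    [([0, 2], [4, 5]), ([1, 2, 3], [0, 1, 3, 4]), ([4], [0, 1, 3, 4, 5]), ([5], [1, 2, 3])],
    [([0, 2], [1, 2, 3, 5]), ([1, 2, 3], [1, 2, 3]), ([4], [0, 2, 4, 5]), ([5], [0, 1, 3, 4])],
    [([0, 2], [0, 2, 4, 5]), ([1, 2, 3], [4]), ([4], [1, 2, 3, 5]), ([5], [0, 2, 4])],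
    [([0, 2], [1, 2, 3, 5]), ([1, 2, 3], [1, 2, 3]), ([4], [0, 2, 4, 5]), ([5], [0, 1, 3, 4])],
    [([0], [0, 4]), ([1], [1, 5]), ([2], [2, 4]), ([3], [3, 4, 5]), ([4], [4]), ([5], [5])],
    [([0], [0, 5]), ([1], [1]), ([2], [2, 4, 5]), ([3], [3]), ([4], [4]), ([5], [5])],
    [([0], [0, 5]), ([1], [1, 4, 5]), ([2], [2, 5]), ([3], [3, 4]), ([4], [4]), ([5], [5])],
    [([0], [0]), ([1], [1]), ([2], [2]), ([3], [3]), ([4], [4]), ([5], [5])],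
    [([0, 1], [4]), ([2], [5]), ([4], [0, 1]), ([5], [2])],
    [([0, 1], [4]), ([2], [5]), ([4], [0, 1]), ([5], [2])],
    [([0], [0, 5]), ([1], [1, 5]), ([2], [2]), ([3], [3, 4, 5]), ([4], [4]), ([5], [5])],
    [([0, 1], [0, 1, 2, 5]), ([2], [0, 1, 4, 5]), ([4], [2, 4, 5]), ([5], [0, 1, 2, 4])],
    [([0, 2], [0, 1, 3, 4, 5]), ([1, 2, 3], [0, 1, 3]), ([4], [1, 2, 3, 4, 5]), ([5], [0, 2, 4, 5])]]
  overlaps := [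
    ([0, 0, 0], [(0, 0), (12, 0)], [(0, 1)]),
    ([1, 1, 1], [(1, 0), (17, 0)], [(1, 1)]),
    ([1, 1, 0], [(1, 0), (16, 0)], [(6, 1), (6, 0), (17, 3), (13, 2), (1, 1), (20, 1), (5, 2), (4, 1)]),
    ([1, 0, 0], [(0, 1)], [(6, 0), (16, 3), (12, 2), (6, 1), (0, 0), (13, 0), (4, 1), (20, 1), (5, 2)]),
    ([2, 2, 0], [(2, 0)], [(7, 1), (7, 0), (14, 2), (2, 1), (4, 1)]),
    ([2, 2, 1], [(2, 0)], [(8, 1), (8, 0), (14, 2), (2, 1), (4, 1)]),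
    ([2, 1, 1], [(1, 1)], [(8, 0), (13, 2), (8, 1), (1, 0), (18, 0), (20, 1), (20, 2), (4, 1)]),
    ([3, 3, 3], [(3, 0), (15, 0)], [(3, 1)]),
    ([3, 3, 0], [(3, 0), (12, 0)], [(9, 1), (9, 0), (15, 2), (3, 1), (4, 1)]),
    ([3, 3, 1], [(3, 0), (13, 0)], [(10, 1), (10, 0), (3, 1)]),
    ([3, 1, 1], [(1, 1)], [(10, 0), (10, 1), (1, 0), (19, 0)]),
    ([3, 1, 0], [(10, 0), (9, 1), (6, 0), (19, 3), (15, 2), (20, 4), (4, 3)], [(6, 1), (9, 0), (13, 2), (10, 1), (4, 3)]),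
    ([3, 3, 2], [(3, 0), (14, 0)], [(11, 1), (11, 0), (19, 2), (3, 1), (5, 2)])]
  fuses := [
    ⟨0, [0, 0], [], [(6, 1), (0, 0), (13, 0), (4, 1), (17, 1), (1, 0), (5, 0)], [], [(18, 1), (2, 0), (5, 0)], []⟩,
    ⟨0, [2, 0], [0, 2], [(12, 0), (13, 1)], [], [(18, 2), (5, 3)], [(16, 1), (7, 0), (17, 3), (13, 2), (8, 1), (4, 3), (5, 3)]⟩,
    ⟨0, [1, 1], [], [(2, 0)], [], [(16, 4), (12, 3), (7, 2), (6, 1), (0, 0), (13, 0), (4, 1), (18, 1), (20, 2), (20, 3), (4, 2), (5, 2), (8, 1), (1, 0), (18, 0), (20, 1), (18, 2), (14, 1), (2, 0), (20, 1), (4, 0), (5, 0)], []⟩,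
    ⟨1, [0, 0], [], [(7, 1), (0, 0), (14, 0), (4, 1), (2, 0)], [], [(20, 1), (4, 0), (5, 0)], []⟩,
    ⟨1, [1, 0], [0, 1], [(9, 2), (7, 1), (6, 0), (18, 3), (14, 2), (20, 4), (4, 3), (19, 3), (20, 4), (18, 5), (14, 4), (11, 3), (2, 2), (20, 3), (5, 4)], [(8, 1), (14, 3), (2, 2), (15, 2)], [(4, 3)], [(16, 1), (12, 0), (17, 2), (13, 1), (19, 3), (15, 2), (20, 4), (4, 3)]⟩,
    ⟨1, [2, 2], [], [(4, 0)], [], [(16, 4), (12, 3), (9, 2), (6, 1), (0, 0), (13, 0), (4, 1), (19, 1), (20, 2), (20, 3), (4, 2), (5, 2), (10, 1), (1, 0), (19, 0), (19, 1), (3, 0), (20, 1), (4, 0), (5, 0)], []⟩,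
    ⟨1, [3, 3], [], [(5, 0)], [], [(10, 2), (8, 1), (1, 0), (18, 0), (20, 1), (19, 2), (15, 1), (18, 3), (14, 2), (11, 1), (2, 0), (20, 1), (5, 2), (15, 1), (3, 0), (4, 0)], []⟩,
    ⟨4, [3, 3], [], [(5, 0)], [], [(12, 3), (9, 2), (6, 1), (0, 0), (13, 0), (4, 1), (19, 1), (20, 2), (20, 3), (4, 2), (17, 2), (10, 1), (1, 0), (19, 0), (5, 1), (3, 0), (4, 0)], []⟩,
    ⟨9, [1, 1], [], [(2, 0)], [], [(5, 0)], []⟩,
    ⟨9, [2, 2], [], [(4, 0)], [], [(6, 1), (0, 0), (13, 0), (4, 1), (17, 1), (1, 0), (5, 0)], []⟩]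
  adj := [
    [(6, 1), (9, 30), (30, 31), (48, 1), (76, 31)],
    [(6, 31), (9, 3), (30, 1), (48, 31), (76, 1), (77, 1)],
    [(6, 1), (9, 31), (76, 31)],
    [(6, 1), (9, 29), (48, 1), (77, 31)],
    [(9, 1)],
    [(6, 1), (9, 31)]]
  base := [
    ([(0, 1), (6, 2), (9, 27), (30, 30), (48, 2), (76, 30)], 4, [(0, 23), (1, 27), (2, 3), (3, 7), (4, 26), (5, 4), (6, 12), (7, 14), (8, 24), (9, 20), (10, 12), (11, 18), (12, 10), (14, 28), (17, 24), (18, 16), (19, 4), (20, 12), (21, 4)]),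
    ([(3, 1), (6, 2), (9, 25), (48, 2), (77, 30)], 4, [(0, 1), (1, 11), (2, 9), (3, 7), (4, 23), (5, 5), (6, 10), (7, 8), (8, 20), (9, 18), (11, 12), (12, 20), (14, 6), (17, 8), (18, 16), (20, 12), (22, 4)])]
  dense := [
    [0, 0, 0, 0, 0, 0, 0, 0, 0, 0, 0, 0, 1],
    [0, 0, 0, 0, 0, 0, 0, 0, 0, 0, 0, 0, 0, 0, 0, 0, 0, 1],
    [0, 0, 0, 0, 31, 31, 30, 0, 0, 0, 0, 0, 0, 31, 0, 0, 1, 31, 0, 0, 31],
    [0, 0, 0, 0, 31, 31, 30, 0, 0, 0, 0, 0, 31, 31, 0, 0, 31, 0, 0, 0, 31],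
    [0, 0, 0, 0, 31, 0, 0, 30, 0, 0, 0, 0, 0, 0, 31],
    [0, 0, 0, 0, 31, 0, 0, 0, 30, 0, 0, 0, 0, 0, 31],
    [0, 0, 0, 0, 31, 0, 0, 0, 30, 0, 0, 0, 0, 31, 0, 0, 0, 0, 31, 0, 30],
    [0, 0, 0, 0, 0, 0, 0, 0, 0, 0, 0, 0, 0, 0, 0, 1],
    [0, 0, 0, 0, 31, 0, 0, 0, 0, 30, 0, 0, 1, 0, 0, 31],
    [0, 0, 0, 0, 0, 0, 0, 0, 0, 0, 30, 0, 0, 1],
    [0, 0, 0, 0, 0, 0, 0, 0, 0, 0, 30, 0, 0, 0, 0, 0, 0, 0, 0, 31],
    [0, 0, 0, 0, 0, 0, 0, 0, 0, 0, 0, 0, 0, 31, 0, 1, 0, 0, 0, 1, 1],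
    [0, 0, 0, 0, 0, 31, 0, 0, 0, 0, 0, 30, 0, 0, 1, 0, 0, 0, 0, 31],
    [1, 1, 31, 0, 1, 0, 1, 0, 0, 0, 0, 0, 0, 1, 0, 0, 0, 1, 31, 0, 0, 30],
    [0, 0, 0, 0, 1, 0, 0, 1, 1, 0, 0, 0, 1, 2, 0, 0, 1, 1, 31],
    [31, 31, 0, 0, 29, 30, 31, 31, 31, 0, 0, 0, 31, 31, 31, 0, 31, 0, 29, 0, 28, 0, 30],
    [1, 0, 1, 0, 0, 31, 0, 1, 0, 0, 0, 0, 0, 0, 1, 0, 0, 0, 0, 0, 31, 0, 0, 0, 0, 0, 0, 30],
    [0, 0, 0, 0, 1, 1, 1, 1, 31, 1, 0, 1, 1, 1, 1, 0, 1, 1, 2, 2, 4],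
    [31, 31, 0, 31, 30, 30, 31, 0, 0, 31, 31, 0, 31, 31, 0, 0, 31, 0, 0, 29, 29, 0, 0, 0, 0, 0, 0, 0, 0, 30],
    [0, 31, 31, 31, 31, 0, 0, 0, 31, 0, 31, 31, 0, 0, 31, 30, 0, 0, 30, 31, 30, 0, 0, 0, 0, 0, 0, 0, 0, 0, 30],
    [31, 31, 0, 31, 29, 0, 31, 0, 0, 31, 31, 0, 31, 31, 0, 0, 0, 31, 0, 30, 30, 0, 0, 0, 0, 0, 0, 0, 0, 0, 0, 0, 0, 0, 0, 0, 0, 0, 0, 0, 0, 0, 0, 0, 0, 0, 0, 0, 30],
    [0, 0, 1, 0, 0, 31, 0, 0, 0, 0, 0, 0, 0, 0, 0, 0, 0, 0, 0, 0, 0, 0, 0, 0, 0, 0, 0, 0, 0, 0, 0, 0, 0, 0, 0, 0, 0, 0, 0, 0, 0, 0, 0, 0, 0, 0, 0, 0, 0, 0, 0, 0, 0, 0, 0, 0, 0, 0, 0, 0, 0, 0, 0, 0, 0, 0, 0, 0, 0, 0, 0, 0, 0, 0, 0, 0, 30],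
    [31, 31, 0, 0, 0, 31, 31, 0, 0, 0, 0, 0, 0, 31, 0, 0, 0, 31, 0, 0, 0, 0, 0, 0, 0, 0, 0, 0, 0, 0, 0, 0, 0, 0, 0, 0, 0, 0, 0, 0, 0, 0, 0, 0, 0, 0, 0, 0, 0, 0, 0, 0, 0, 0, 0, 0, 0, 0, 0, 0, 0, 0, 0, 0, 0, 0, 0, 0, 0, 0, 0, 0, 0, 0, 0, 0, 0, 30]]
  tgt := [
    ([(0, 1)], []),
    ([(0, 29), (1, 12)], [(0, 17), (1, 1), (2, 2), (4, 31), (6, 2), (7, 17), (8, 27), (9, 31), (10, 11), (11, 14), (12, 5), (14, 2), (15, 16), (17, 12), (19, 2), (20, 10), (21, 2), (22, 3)]),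
    ([(0, 6), (1, 10)], [(0, 21), (1, 10), (2, 10), (4, 19), (6, 10), (7, 23), (8, 21), (9, 28), (10, 31), (11, 18), (12, 1), (13, 16), (14, 10), (16, 16), (17, 12), (19, 10), (21, 11), (22, 6)]),
    ([(1, 1)], []),
    ([], [(0, 1), (7, 31), (8, 31)]),
    ([(0, 6), (1, 10)], [(0, 21), (1, 10), (2, 10), (4, 19), (6, 10), (7, 23), (8, 21), (9, 28), (10, 31), (11, 18), (12, 1), (13, 16), (14, 10), (16, 16), (17, 12), (19, 10), (21, 10), (22, 6)]),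
    ([], []),
    ([(0, 27), (1, 18)], [(0, 21), (1, 21), (2, 29), (4, 1), (6, 4), (7, 2), (8, 21), (9, 14), (10, 9), (11, 29), (12, 11), (14, 8), (17, 27), (19, 5), (20, 13), (21, 5), (22, 14)]),
    ([(0, 13)], [(0, 10), (1, 29), (4, 16), (6, 3), (7, 15), (8, 3), (9, 29), (10, 3), (11, 26), (12, 16), (13, 16), (14, 29), (15, 16), (16, 16), (17, 3), (18, 16), (19, 3), (20, 13), (21, 3)]),
    ([], []),
    ([(0, 14), (1, 21)], [(0, 13), (1, 2), (2, 18), (4, 7), (6, 2), (7, 28), (8, 8), (9, 2), (10, 3), (11, 16), (12, 13), (13, 16), (14, 18), (15, 16), (16, 16), (17, 28), (18, 16), (19, 2), (20, 3), (21, 2), (22, 11)]),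
    ([(0, 16), (1, 30)], [(0, 29), (1, 16), (2, 8), (4, 12), (6, 1), (7, 31), (8, 25), (9, 6), (10, 27), (11, 26), (12, 25), (13, 16), (14, 5), (15, 16), (16, 16), (17, 19), (18, 16), (20, 14), (22, 2)]),
    ([], [(0, 1)]),
    ([(0, 28), (1, 10)], [(0, 26), (1, 4), (2, 4), (4, 14), (6, 4), (7, 24), (8, 16), (9, 5), (10, 22), (12, 10), (14, 20), (15, 16), (17, 24), (19, 4), (20, 6), (21, 4), (22, 6)]),
    ([(0, 10), (1, 28)], [(0, 5), (1, 6), (2, 6), (4, 13), (6, 8), (7, 13), (8, 7), (9, 20), (10, 30), (11, 6), (12, 26), (13, 16), (15, 16), (16, 16), (17, 26), (18, 16), (19, 6), (20, 6), (21, 6), (22, 4)]),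
    ([], [(7, 1)]),
    ([(0, 26), (1, 8)], [(0, 4), (1, 7), (2, 7), (4, 29), (6, 6), (7, 29), (8, 4), (9, 10), (10, 2), (11, 19), (12, 15), (14, 6), (15, 16), (17, 4), (19, 6), (20, 2), (21, 6), (22, 8)]),
    ([], [(1, 1)]),
    ([(0, 26), (1, 14)], [(0, 9), (1, 18), (2, 12), (4, 26), (6, 5), (7, 13), (8, 11), (9, 15), (10, 10), (11, 10), (12, 14), (14, 2), (15, 16), (17, 2), (19, 6), (20, 8), (21, 6), (22, 2)]),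
    ([(0, 4), (1, 22)], [(0, 6), (1, 12), (2, 12), (4, 18), (6, 12), (7, 8), (8, 16), (9, 28), (10, 9), (12, 6), (13, 16), (14, 12), (15, 16), (16, 16), (17, 24), (19, 12), (20, 10), (21, 12), (22, 10)]),
    ([(0, 24), (1, 20)], [(0, 20), (1, 8), (2, 8), (4, 28), (6, 8), (7, 15), (9, 9), (10, 13), (11, 1), (12, 20), (14, 8), (17, 16), (19, 8), (20, 12), (21, 8), (22, 12)])]

/-- Orbits inside the subgroup. -/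
def orbits : List (ℕ × List (ℕ × List ℕ)) := [
    (0, [(0, []), (9, [3]), (11, [1]), (12, [2])]),
    (5, [(1, [1, 2, 3]), (2, [5]), (3, [0, 2, 4, 5]), (4, [0, 1, 3]), (5, []), (6, [1, 2, 3, 5]), (7, [0, 1, 3, 5]), (8, [0, 2, 4]), (13, [0, 2, 5]), (14, [1, 2, 3, 4]), (15, [4, 5]), (16, [0, 1, 3, 4]), (17, [0, 1, 3, 4, 5]), (18, [1, 2, 3, 4, 5]), (19, [0, 2]), (20, [4])])]

theorem checks : certChecks 21 tab cert sw gw orbits = true := by decide +kernel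

theorem lin_ok : cert.linOK = true := by decide +kernel

end CfsgLib.Lie.MultExc.LThreeFour.P2
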