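import Cfsg.Agent.Lib.Lie.MultExc.LThreeFour.Table

/-!
The certificate at the prime 3: a polycyclic sequence of a Sylow subgroup and conjugations.
-/

set_option autoImplicit false
set_option maxRecDepth 100000
set_option maxHeartbeats 0

namespace CfsgLib.Lie.MultExc.LThreeFour.P3

open CfsgLib.Spor.SchurCert

/-- The Sylow elements. -/
def sw : List (List ℕ) := [
    [22, 44, 82, 78],
    [29, 32, 80, 79]]

/-- The conjugating elements. -/
def gw : List (List ℕ) := [
    [22, 37, 63, 79]]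

/-- The certificate. -/
def cert : CfsgLib.Spor.SchurCert.Cert where
  p := 3
  m := 2
  N := 9
  rules := [
    ([0, 0, 0], []),
    ([1, 1, 1], []),
    ([1, 0], [0, 1])]
  maps := [
    [([0], [0, 0]), ([1], [1, 1])]]
  overlaps := [
    ([1, 1, 1, 0], [(1, 0)], [(2, 2), (2, 1), (2, 0), (1, 1)])]
  fuses := [
    ⟨0, [0, 0, 0], [], [(0, 0)], [], [(0, 0), (0, 0)], []⟩,
    ⟨0, [1, 1, 1], [], [(1, 0)], [], [(1, 0), (1, 0)], []⟩]
  adj := [
    [(3, 1)],
    [(4, 1)]]
  base := [
    ([(2, 1)], 3, [(0, 2)])]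
  dense := [
    [0, 0, 6],
    [8, 0, 0, 6],
    [0, 8, 0, 0, 6]]
  tgt := [
    ([], [(1, 8)]),
    ([], [(2, 8)]),
    ([(0, 1)], [])]

/-- Orbits inside the subgroup. -/
def orbits : List (ℕ × List (ℕ × List ℕ)) := [
    (0, [(0, []), (2, [0, 0, 1]), (3, [0, 1, 1]), (5, [0, 0]), (8, [0]), (13, [0, 1]), (15, [0, 0, 1, 1]), (17, [1, 1]), (18, [1])])]

theorem checks : certChecks 21 tab cert sw gw orbits = true := by decide +kernel

theorem lin_ok : cert.linOK = true := by decide +kernel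

end CfsgLib.Lie.MultExc.LThreeFour.P3
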